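import Groth.Prelude.Def_NonAbH1
import Mathlib.Data.Int.Cast.Lemmas
import Mathlib.CategoryTheory.Sites.CoversTop

/-!
# Torsors under a sheaf of groups: gluing, morphisms, Čech classes, fibre torsors

General lemmas on `NonAbH1.GSheaf` over any site.
-/

set_option autoImplicit false

universe w' w v u

open CategoryTheory Opposite NonAbH1

namespace Groth.Agent.Torsor25

variable {C : Type u} [Category.{v} C] {J : GrothendieckTopology C} {G : Sheaf J GrpCat.{w}}

/-- Gluing of sections of a sheaf of sets. -/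
theorem existsUnique_glue_type (P : Sheaf J (Type w)) {T : C} {S : Sieve T} (hS : S ∈ J T)
    (x : ∀ ⦃Y : C⦄ (f : Y ⟶ T), S f → P.obj.obj (op Y))
    (hx : ∀ ⦃Y Y' : C⦄ (c : Y' ⟶ Y) (f : Y ⟶ T) (hf : S f),
      P.obj.map c.op (x f hf) = x (c ≫ f) (S.downward_closed hf c)) :
    ∃! p : P.obj.obj (op T), ∀ ⦃Y : C⦄ (f : Y ⟶ T) (hf : S f), P.obj.map f.op p = x f hf := by
  have h := (isSheaf_iff_isSheaf_of_type J P.obj).1 P.property S hS (fun Y f hf => x f hf)
    (by rw [Presieve.compatible_iff_sieveCompatible]; intro Y Y' f c hf; exact (hx c f hf).symm)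
  exact h

theorem ext_type (P : Sheaf J (Type w)) {T : C} {S : Sieve T} (hS : S ∈ J T)
    {p p' : P.obj.obj (op T)}
    (h : ∀ ⦃Y : C⦄ (f : Y ⟶ T), S f → P.obj.map f.op p = P.obj.map f.op p') : p = p' :=
  (existsUnique_glue_type P hS (fun Y f _ => P.obj.map f.op p) (fun Y Y' c f _ => by simp)).unique
    (fun _ _ _ => rfl) (fun _ f hf => (h f hf).symm)

/-- Gluing of sections of a sheaf of groups. -/
theorem existsUnique_glue (G : Sheaf J GrpCat.{w}) {T : C} {S : Sieve T} (hS : S ∈ J T)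
    (x : ∀ ⦃Y : C⦄ (f : Y ⟶ T), S f → G.obj.obj (op Y))
    (hx : ∀ ⦃Y Y' : C⦄ (c : Y' ⟶ Y) (f : Y ⟶ T) (hf : S f),
      G.obj.map c.op (x f hf) = x (c ≫ f) (S.downward_closed hf c)) :
    ∃! g : G.obj.obj (op T), ∀ ⦃Y : C⦄ (f : Y ⟶ T) (hf : S f), G.obj.map f.op g = x f hf := by
  let Z : GrpCat.{w} := GrpCat.of (ULift.{w} (Multiplicative ℤ))
  let one' : Z := ULift.up (Multiplicative.ofAdd 1)
  let mk : ∀ {Y : Cᵒᵖ}, G.obj.obj Y → (Z ⟶ G.obj.obj Y) := fun {Y} g =>
    GrpCat.ofHom ((zpowersHom _ g).comp MulEquiv.ulift.toMonoidHom)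
  have hmk : ∀ {Y : Cᵒᵖ} (g : G.obj.obj Y), (mk g) one' = g := fun g => by
    change g ^ (1 : ℤ) = g
    exact zpow_one g
  have hext : ∀ {Y : Cᵒᵖ} (φ ψ : Z ⟶ G.obj.obj Y), φ one' = ψ one' → φ = ψ := by
    intro Y φ ψ h
    ext z
    obtain ⟨z⟩ := z
    have e : (ULift.up z : ULift.{w} (Multiplicative ℤ)) = one' ^ (Multiplicative.toAdd z) := by
      apply ULift.ext
      change z = (Multiplicative.ofAdd (1 : ℤ)) ^ (Multiplicative.toAdd z)
      simp [← ofAdd_zsmul]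
    have : ∀ χ : Z ⟶ G.obj.obj Y, χ (ULift.up z) = (χ one') ^ (Multiplicative.toAdd z) := fun χ => by
      rw [← map_zpow]; exact congrArg _ e
    exact (this φ).trans ((congrArg (· ^ _) h).trans (this ψ).symm)
  let fam : Presieve.FamilyOfElements (G.obj ⋙ coyoneda.obj (op Z)) S.arrows := fun Y f hf => mk (x f hf)
  have hfam : fam.Compatible := by
    rw [Presieve.compatible_iff_sieveCompatible]
    intro Y Y' f c hf
    apply hext
    change (mk (x (c ≫ f) _)) one' = G.obj.map c.op ((mk (x f hf)) one')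
    rw [hmk, hmk, hx]
  obtain ⟨g, hg, hguniq⟩ := G.property Z S hS fam hfam
  change Z ⟶ G.obj.obj (op T) at g
  refine ⟨g one', fun Y f hf => ?_, fun g' hg' => ?_⟩
  · have h : (g ≫ G.obj.map f.op : Z ⟶ G.obj.obj (op Y)) = mk (x f hf) := hg f hf
    exact (congr($h one')).trans (hmk _)
  · have := hguniq (mk g') (fun Y f hf => hext _ _ ?_)
    · rw [← this, hmk]
    · change G.obj.map f.op ((mk g') one') = (mk (x f hf)) one'
      rw [hmk, hmk, hg']

theorem ext_group (G : Sheaf J GrpCat.{w}) {T : C} {S : Sieve T} (hS : S ∈ J T)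
    {g g' : G.obj.obj (op T)}
    (h : ∀ ⦃Y : C⦄ (f : Y ⟶ T), S f → G.obj.map f.op g = G.obj.map f.op g') : g = g' :=
  (existsUnique_glue G hS (fun Y f _ => G.obj.map f.op g) (fun Y Y' c f _ => by simp)).unique
    (fun _ _ _ => rfl) (fun _ f hf => (h f hf).symm)

section

variable {P Q : GSheaf G}

theorem map_map {T T' T'' : C} (a : T' ⟶ T) (b : T'' ⟶ T') (p : P.P.obj.obj (op T)) :
    P.P.obj.map b.op (P.P.obj.map a.op p) = P.P.obj.map (b ≫ a).op p := by simp

theorem smul_cancel (hP : P.IsPseudoTorsor) {U : Cᵒᵖ} {g g' : G.obj.obj U} {p : P.P.obj.obj U}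
    (h : P.smul g p = P.smul g' p) : g = g' :=
  (hP U p (P.smul g' p)).unique h rfl

/-- An equivariant morphism between torsors is bijective on sections. -/
theorem bijective_app (hP : P.IsTorsor) (hQ : Q.IsTorsor) (φ : P ⟶ Q) (T : C) :
    Function.Bijective (φ.hom.hom.app (op T)) := by
  have hinj : ∀ T : C, Function.Injective (φ.hom.hom.app (op T)) := by
    intro T p p' h
    obtain ⟨g, hg, -⟩ := hP.1 _ p p'
    have h1 : Q.smul g (φ.hom.hom.app (op T) p) = Q.smul 1 (φ.hom.hom.app (op T) p) := by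
      rw [← φ.map_smul, hg, Q.one_smul, h]
    rw [← hg, smul_cancel hQ.1 h1, P.one_smul]
  refine ⟨hinj T, fun q => ?_⟩
  obtain ⟨S, hS, hne⟩ := hP.2 T
  have hloc : ∀ ⦃Y : C⦄ (f : Y ⟶ T), S f → ∃ p, φ.hom.hom.app (op Y) p = Q.P.obj.map f.op q := by
    intro Y f hf
    obtain ⟨p⟩ := hne f hf
    obtain ⟨g, hg, -⟩ := hQ.1 _ (φ.hom.hom.app (op Y) p) (Q.P.obj.map f.op q)
    exact ⟨P.smul g p, by rw [φ.map_smul, hg]⟩
  choose x hx using hloc
  have hnat : ∀ {Y Y' : C} (c : Y' ⟶ Y) (p : P.P.obj.obj (op Y)),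
      φ.hom.hom.app (op Y') (P.P.obj.map c.op p) = Q.P.obj.map c.op (φ.hom.hom.app (op Y) p) :=
    fun c p => NatTrans.naturality_apply φ.hom.hom c.op p
  obtain ⟨p, hp, -⟩ := existsUnique_glue_type P.P hS x fun Y Y' c f hf => hinj _ (by
    rw [hnat, hx, hx]; simp)
  refine ⟨p, ext_type Q.P hS fun Y f hf => ?_⟩
  rw [← hnat, hp f hf, hx]

/-- A natural family of maps commuting with the actions gives a morphism of `G`-sheaves. -/
def homMk (φ : ∀ T : C, P.P.obj.obj (op T) → Q.P.obj.obj (op T))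
    (hn : ∀ ⦃T T' : C⦄ (f : T' ⟶ T) (p : P.P.obj.obj (op T)),
      φ T' (P.P.obj.map f.op p) = Q.P.obj.map f.op (φ T p))
    (he : ∀ (T : C) (g : G.obj.obj (op T)) (p : P.P.obj.obj (op T)),
      φ T (P.smul g p) = Q.smul g (φ T p)) : P ⟶ Q :=
  ⟨⟨{ app := fun T => TypeCat.ofHom (φ T.unop)
      naturality := fun T T' f => by ext p; exact hn f.unop p }⟩, fun {T} g p => he T.unop g p⟩

@[simp] theorem homMk_app (φ : ∀ T : C, P.P.obj.obj (op T) → Q.P.obj.obj (op T)) (hn he) (T : C)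
    (p : P.P.obj.obj (op T)) : (homMk φ hn he).hom.hom.app (op T) p = φ T p := rfl

/-- A bijective equivariant morphism is an isomorphism. -/
theorem nonempty_iso_of_bijective (φ : P ⟶ Q)
    (hb : ∀ T : C, Function.Bijective (φ.hom.hom.app (op T))) : Nonempty (P ≅ Q) := by
  let e : ∀ T : C, P.P.obj.obj (op T) ≃ Q.P.obj.obj (op T) := fun T => Equiv.ofBijective _ (hb T)
  have he : ∀ T p, e T p = φ.hom.hom.app (op T) p := fun _ _ => rfl
  let ψ : Q ⟶ P := homMk (fun T => (e T).symm)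
    (fun T T' f q => by
      rw [Equiv.symm_apply_eq, he]
      refine (Eq.trans ?_ (NatTrans.naturality_apply φ.hom.hom f.op _).symm)
      exact congrArg _ ((e T).apply_symm_apply q).symm)
    (fun T g q => by
      rw [Equiv.symm_apply_eq, he, φ.map_smul]
      exact congrArg _ ((e T).apply_symm_apply q).symm)
  refine ⟨⟨φ, ψ, ?_, ?_⟩⟩
  · refine GSheaf.hom_ext (Sheaf.hom_ext ?_)
    ext T p
    exact (e T.unop).symm_apply_apply p
  · refine GSheaf.hom_ext (Sheaf.hom_ext ?_)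
    ext T p
    exact (e T.unop).apply_symm_apply p

/-- An equivariant morphism between torsors yields an isomorphism. -/
theorem nonempty_iso (hP : P.IsTorsor) (hQ : Q.IsTorsor) (φ : P ⟶ Q) : Nonempty (P ≅ Q) :=
  nonempty_iso_of_bijective φ (bijective_app hP hQ φ)

end

/-- Isomorphism of torsors is equality of classes. -/
theorem cl_eq_iff (P Q : NonAbH1.Torsor G) :
    P.cl = Q.cl ↔ Nonempty (P.toGSheaf ≅ Q.toGSheaf) := by
  have : _root_.Equivalence (fun P Q : NonAbH1.Torsor G => Nonempty (P.toGSheaf ≅ Q.toGSheaf)) :=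
    ⟨fun P => ⟨Iso.refl _⟩, fun ⟨e⟩ => ⟨e.symm⟩, fun ⟨e⟩ ⟨e'⟩ => ⟨e ≪≫ e'⟩⟩
  exact this.quot_mk_eq_iff _ _

section Cech

variable {I : Type w'} {U : I → C}

/-- The cocycle of a family of sections of a pseudo-torsor. -/
theorem exists_cocycle {P : GSheaf G} (hP : P.IsPseudoTorsor)
    (s : ∀ i, P.P.obj.obj (op (U i))) :
    ∃ γ : PresheafOfGroups.OneCocycle G.obj U, P.IsCocycleOf U s γ := by
  choose ev hev huniq using fun (i j : I) (T : C) (a : T ⟶ U i) (b : T ⟶ U j) =>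
    hP (op T) (P.P.obj.map b.op (s j)) (P.P.obj.map a.op (s i))
  refine ⟨⟨⟨fun i j T a b => ev i j T a b, ?_⟩, ?_⟩, fun i j T a b => hev i j T a b⟩
  · intro i j T T' φ a b
    refine huniq i j T _ _ _ ?_
    beta_reduce
    rw [← map_map (P := P) b φ, ← map_map (P := P) a φ, ← P.map_smul, hev i j T' a b]
  · intro i j k T a b c
    refine huniq i k T a c _ ?_
    beta_reduce
    rw [P.mul_smul, hev, hev]

/-- Two cocycles of the same pseudo-torsor are cohomologous. -/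
theorem isCohomologous {P : GSheaf G} (hP : P.IsPseudoTorsor)
    {s t : ∀ i, P.P.obj.obj (op (U i))} {γ δ : PresheafOfGroups.OneCocycle G.obj U}
    (hs : P.IsCocycleOf U s γ) (ht : P.IsCocycleOf U t δ) : γ.IsCohomologous δ := by
  choose α hα using fun i => (hP (op (U i)) (s i) (t i)).exists
  refine ⟨α, fun i j T a b => smul_cancel hP (p := P.P.obj.map b.op (s j)) ?_⟩
  rw [P.mul_smul, hs, P.mul_smul, ← P.map_smul, ← P.map_smul, hα, hα, ht]

/-- Changing the sections of a cocycle by a zero-cochain. -/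
theorem isCocycleOf_of_relation {P : GSheaf G} {s : ∀ i, P.P.obj.obj (op (U i))}
    {γ δ : PresheafOfGroups.OneCocycle G.obj U} (hs : P.IsCocycleOf U s γ)
    {α : PresheafOfGroups.ZeroCochain G.obj U}
    (h : PresheafOfGroups.OneCohomologyRelation γ.toOneCochain δ.toOneCochain α) :
    P.IsCocycleOf U (fun i => P.smul (α i) (s i)) δ := by
  intro i j T a b
  beta_reduce
  rw [P.map_smul, P.map_smul, ← P.mul_smul, ← h i j a b, P.mul_smul, hs]

/-- Torsors with the same cocycle on a covering family are isomorphic. -/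
theorem nonempty_iso_of_cocycle {P Q : GSheaf G} (hP : P.IsTorsor) (hQ : Q.IsTorsor)
    (hU : J.CoversTop U) {s : ∀ i, P.P.obj.obj (op (U i))} {t : ∀ i, Q.P.obj.obj (op (U i))}
    {γ : PresheafOfGroups.OneCocycle G.obj U}
    (hs : P.IsCocycleOf U s γ) (ht : Q.IsCocycleOf U t γ) : Nonempty (P ≅ Q) := by
  have hloc : ∀ (T : C) (p : P.P.obj.obj (op T)), ∃ q : Q.P.obj.obj (op T),
      ∀ ⦃Y : C⦄ (f : Y ⟶ T) (i : I) (b : Y ⟶ U i) (g : G.obj.obj (op Y)),
        P.smul g (P.P.obj.map b.op (s i)) = P.P.obj.map f.op p →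
        Q.P.obj.map f.op q = Q.smul g (Q.P.obj.map b.op (t i)) := by
    intro T p
    have key : ∀ ⦃Y : C⦄ (f : Y ⟶ T) (i j : I) (b : Y ⟶ U i) (b' : Y ⟶ U j)
        (g g' : G.obj.obj (op Y)),
        P.smul g (P.P.obj.map b.op (s i)) = P.P.obj.map f.op p →
        P.smul g' (P.P.obj.map b'.op (s j)) = P.P.obj.map f.op p →
        Q.smul g (Q.P.obj.map b.op (t i)) = Q.smul g' (Q.P.obj.map b'.op (t j)) := by
      intro Y f i j b b' g g' hg hg'
      have h1 : g * γ.ev i j b b' = g' := by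
        refine smul_cancel hP.1 (p := P.P.obj.map b'.op (s j)) ?_
        rw [P.mul_smul, hs, hg, hg']
      rw [← h1, Q.mul_smul, ht]
    have hex : ∀ ⦃Y : C⦄ (f : Y ⟶ T) (hf : Sieve.ofObjects U T f), ∃ q : Q.P.obj.obj (op Y),
        ∀ (i : I) (b : Y ⟶ U i) (g : G.obj.obj (op Y)),
          P.smul g (P.P.obj.map b.op (s i)) = P.P.obj.map f.op p →
          q = Q.smul g (Q.P.obj.map b.op (t i)) := by
      rintro Y f ⟨i, ⟨b⟩⟩
      obtain ⟨g, hg, -⟩ := hP.1 _ (P.P.obj.map b.op (s i)) (P.P.obj.map f.op p)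
      exact ⟨_, fun j b' g' hg' => key f i j b b' g g' hg hg'⟩
    choose x hx using hex
    obtain ⟨q, hq, -⟩ := existsUnique_glue_type Q.P (hU T) x fun Y Y' c f hf => by
      obtain ⟨i, ⟨b⟩⟩ := hf
      obtain ⟨g, hg, -⟩ := hP.1 _ (P.P.obj.map b.op (s i)) (P.P.obj.map f.op p)
      rw [hx f _ i b g hg, Q.map_smul, map_map]
      refine (hx (c ≫ f) _ i (c ≫ b) (G.obj.map c.op g) ?_).symm
      rw [← map_map (P := P) b c, ← P.map_smul, hg, map_map]
    refine ⟨q, fun Y f i b g hg => ?_⟩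
    rw [hq f ⟨i, ⟨b⟩⟩]
    exact hx f _ i b g hg
  choose φ hφ using hloc
  have hφu : ∀ (T : C) (p : P.P.obj.obj (op T)) (q : Q.P.obj.obj (op T)),
      (∀ ⦃Y : C⦄ (f : Y ⟶ T) (i : I) (b : Y ⟶ U i) (g : G.obj.obj (op Y)),
        P.smul g (P.P.obj.map b.op (s i)) = P.P.obj.map f.op p →
        Q.P.obj.map f.op q = Q.smul g (Q.P.obj.map b.op (t i))) → φ T p = q := by
    intro T p q hq
    refine ext_type Q.P (hU T) ?_
    rintro Y f ⟨i, ⟨b⟩⟩
    obtain ⟨g, hg, -⟩ := hP.1 _ (P.P.obj.map b.op (s i)) (P.P.obj.map f.op p)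
    rw [hφ T p f i b g hg, hq f i b g hg]
  refine nonempty_iso hP hQ (homMk φ (fun T T' c p => hφu _ _ _ fun Y f i b g hg => ?_)
    (fun T a p => hφu _ _ _ fun Y f i b g hg => ?_))
  · rw [map_map]
    exact hφ T p (f ≫ c) i b g (by rw [hg, map_map])
  · obtain ⟨g₀, hg₀, -⟩ := hP.1 _ (P.P.obj.map b.op (s i)) (P.P.obj.map f.op p)
    rw [Q.map_smul, hφ T p f i b g₀ hg₀, ← Q.mul_smul]
    congr 1
    refine smul_cancel hP.1 (p := P.P.obj.map b.op (s i)) ?_
    rw [P.mul_smul, hg₀, hg, P.map_smul]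

end Cech

section Fibre

variable [J.HasSheafCompose (forget GrpCat.{w})] {F : Sheaf J GrpCat.{w}} {u : F ⟶ G}
  {Q : GSheaf G} {π : GSheaf.trivial G ⟶ Q}

theorem map_u (u : F ⟶ G) {T T' : C} (f : T' ⟶ T) (a : F.obj.obj (op T)) :
    u.hom.app (op T') (F.obj.map f.op a) = G.obj.map f.op (u.hom.app (op T) a) :=
  NatTrans.naturality_apply u.hom f.op a

/-- The value of `π` on a product. -/
theorem π_mul (π : GSheaf.trivial G ⟶ Q) {U : Cᵒᵖ} (g x : G.obj.obj U) :
    π.hom.hom.app U (GSheaf.ofGrp (g * x)) = Q.smul g (π.hom.hom.app U (GSheaf.ofGrp x)) :=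
  π.map_smul g (GSheaf.ofGrp x)

theorem π_map (π : GSheaf.trivial G ⟶ Q) {T T' : C} (f : T' ⟶ T) (g : G.obj.obj (op T)) :
    π.hom.hom.app (op T') (GSheaf.ofGrp (G.obj.map f.op g)) =
      Q.P.obj.map f.op (π.hom.hom.app (op T) (GSheaf.ofGrp g)) :=
  NatTrans.naturality_apply π.hom.hom f.op (GSheaf.ofGrp g)

variable (hu : ∀ U : Cᵒᵖ, Function.Injective (u.hom.app U)) (hQ : GSheaf.IsQuotientBy u π)

include hQ in
theorem π_eq_iff {U : Cᵒᵖ} (g g' : G.obj.obj U) :
    π.hom.hom.app U (GSheaf.ofGrp g) = π.hom.hom.app U (GSheaf.ofGrp g') ↔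
      ∃ f : F.obj.obj U, g' = g * u.hom.app U f := hQ.1 U g g'

include hu hQ in
/-- A sheaf of local liftings is a torsor. -/
theorem isTorsor_of_isFibreOver {c : Q.P.obj.sections} {T : GSheaf F}
    (hT : GSheaf.IsFibreOver u π c T) : T.IsTorsor := by
  obtain ⟨ι, hinj, himg, heq⟩ := hT
  refine ⟨fun U p q => ?_, fun U => ?_⟩
  · have hp := (himg U _).1 ⟨p, rfl⟩
    have hq := (himg U _).1 ⟨q, rfl⟩
    obtain ⟨f, hf⟩ := (π_eq_iff hQ _ _).1 (hp.trans hq.symm)
    refine ⟨f⁻¹, hinj U ?_, fun f' hf' => hu U ?_⟩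
    · refine ((heq U f⁻¹ p).trans ?_)
      rw [map_inv, inv_inv]
      exact hf.symm
    · have h1 := (heq U f' p).symm.trans (congrArg (fun t => GSheaf.toGrp (ι.hom.app U t)) hf')
      beta_reduce at h1
      rw [hf, mul_left_cancel_iff] at h1
      rw [map_inv, ← h1, inv_inv]
  · obtain ⟨S, hS, hloc⟩ := hQ.2 U (c.1 (op U))
    refine ⟨S, hS, fun V a ha => ?_⟩
    obtain ⟨g, hg⟩ := hloc a ha
    rw [c.2 a.op] at hg
    exact ⟨((himg (op V) g).2 hg).choose⟩

/-- Two sheaves of local liftings of the same section are isomorphic. -/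
theorem nonempty_iso_of_isFibreOver {c : Q.P.obj.sections} {T T' : GSheaf F}
    (hT : GSheaf.IsFibreOver u π c T) (hT' : GSheaf.IsFibreOver u π c T') : Nonempty (T ≅ T') := by
  obtain ⟨ι, hinj, himg, heq⟩ := hT
  obtain ⟨ι', hinj', himg', heq'⟩ := hT'
  have hex : ∀ (V : C) (t : T.P.obj.obj (op V)), ∃ t', GSheaf.toGrp (ι'.hom.app (op V) t') =
      GSheaf.toGrp (ι.hom.app (op V) t) := fun V t => (himg' _ _).2 ((himg _ _).1 ⟨t, rfl⟩)
  choose φ hφ using hex
  let Φ : T ⟶ T' := homMk φ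
    (fun V V' f t => hinj' _ (((hφ _ _).trans (NatTrans.naturality_apply ι.hom f.op t)).trans
      ((congrArg _ (hφ V t).symm).trans (NatTrans.naturality_apply ι'.hom f.op _).symm)))
    (fun V g t => hinj' _ (((hφ _ _).trans (heq _ g t)).trans
      ((congrArg (· * _) (hφ V t).symm).trans (heq' _ g _).symm)))
  refine nonempty_iso_of_bijective Φ fun V => ⟨fun a b h => hinj _ ?_, fun t' => ?_⟩
  · exact ((hφ V a).symm.trans (congrArg (fun t => GSheaf.toGrp (ι'.hom.app (op V) t)) h)).trans (hφ V b)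
  · obtain ⟨t, ht⟩ := (himg (op V) _).2 ((himg' (op V) _).1 ⟨t', rfl⟩)
    exact ⟨t, hinj' _ ((hφ V t).trans ht)⟩

variable (π) in
/-- The presheaf of liftings of `c`. -/
def liftPresheaf (c : Q.P.obj.sections) : Cᵒᵖ ⥤ Type w where
  obj U := { g : G.obj.obj U // π.hom.hom.app U (GSheaf.ofGrp g) = c.1 U }
  map {U V} f := TypeCat.ofHom fun g => ⟨G.obj.map f g.1,
    ((π_map π f.unop g.1).trans (congrArg _ g.2)).trans (c.2 f)⟩
  map_id U := by ext g; simp
  map_comp f f' := by ext g; simp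

theorem isSheaf_liftPresheaf (c : Q.P.obj.sections) :
    Presheaf.IsSheaf J (liftPresheaf π c) := by
  rw [isSheaf_iff_isSheaf_of_type]
  intro T S hS fam hfam
  rw [Presieve.compatible_iff_sieveCompatible] at hfam
  obtain ⟨g, hg, huniq⟩ := existsUnique_glue G hS (fun Y f hf => (fam f hf).1)
    (fun Y Y' a f hf => (congrArg Subtype.val (hfam f a hf)).symm)
  refine ⟨⟨g, ext_type Q.P hS fun Y f hf => ?_⟩, fun Y f hf => Subtype.ext (hg f hf),
    fun g' hg' => Subtype.ext (huniq g'.1 fun Y f hf => congrArg Subtype.val (hg' f hf))⟩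
  rw [← π_map π, hg f hf]
  exact (fam f hf).2.trans (c.2 f.op).symm

include hu hQ in
/-- Existence of the torsor of local liftings. -/
theorem exists_isFibreOver (c : Q.P.obj.sections) :
    ∃ T : NonAbH1.Torsor F, GSheaf.IsFibreOver u π c T.toGSheaf := by
  have hact : ∀ (U : Cᵒᵖ) (a : F.obj.obj U) (g : (liftPresheaf π c).obj U),
      π.hom.hom.app U (GSheaf.ofGrp (g.1 * (u.hom.app U a)⁻¹)) = c.1 U := fun U a g =>
    ((π_eq_iff hQ _ _).2 ⟨a⁻¹, by rw [map_inv]⟩).symm.trans g.2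
  let T : GSheaf F :=
  { P := ⟨liftPresheaf π c, isSheaf_liftPresheaf c⟩
    smul := fun {U} a g => ⟨g.1 * (u.hom.app U a)⁻¹, hact U a g⟩
    one_smul := fun g => Subtype.ext (by simp)
    mul_smul := fun a b g => Subtype.ext (by simp [mul_assoc])
    map_smul := fun {U V} f a g => by
      refine Subtype.ext ?_
      change G.obj.map f (g.1 * (u.hom.app U a)⁻¹) = G.obj.map f g.1 * (u.hom.app V (F.obj.map f a))⁻¹
      rw [map_mul, map_inv]
      exact congrArg (fun z => G.obj.map f g.1 * z⁻¹) (map_u u f.unop a).symm }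
  have hT : GSheaf.IsFibreOver u π c T := by
    refine ⟨⟨{ app := fun U => TypeCat.ofHom fun g => GSheaf.ofGrp g.1
               naturality := fun U V f => by ext g; rfl }⟩,
      fun U a b h => Subtype.ext h, fun U g => ⟨?_, fun h => ⟨⟨g, h⟩, rfl⟩⟩, fun U a t => rfl⟩
    rintro ⟨t, rfl⟩
    exact t.2
  exact ⟨⟨T, isTorsor_of_isFibreOver hu hQ hT⟩, hT⟩

end Fibre

end Groth.Agent.Torsor25
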