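import Groth.Agent.Lib.Torsor25.Basic
import Mathlib.Algebra.Category.Grp.FilteredColimits
import Mathlib.CategoryTheory.Sites.Point.Basic
import Mathlib.Logic.Equiv.Defs

/-!
# The Godement sheaf of groups of a family of points

For a family of points `Φ i` of a site and groups `A i`, the sheaf
`V ↦ ∏ i, (Φ i V → A i)` has only trivial torsors over every object.
-/

set_option autoImplicit false

universe u

open CategoryTheory Opposite Limits NonAbH1

namespace Groth.Agent.Torsor25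

variable {C : Type (u + 1)} [Category.{u} C] {J : GrothendieckTopology C} {ι : Type u}
  (Φ : ι → GrothendieckTopology.Point.{u} J)

theorem fiber_map_map (i : ι) {X Y Z : C} (f : X ⟶ Y) (g : Y ⟶ Z) (x : (Φ i).fiber.obj X) :
    (Φ i).fiber.map g ((Φ i).fiber.map f x) = (Φ i).fiber.map (f ≫ g) x := by simp

variable {Φ} in
/-- Two lifts of a point have a common refinement. -/
theorem exists_common (i : ι) {X Y₁ Y₂ : C} (f₁ : Y₁ ⟶ X) (f₂ : Y₂ ⟶ X) (y₁ : (Φ i).fiber.obj Y₁)
    (y₂ : (Φ i).fiber.obj Y₂) (h : (Φ i).fiber.map f₁ y₁ = (Φ i).fiber.map f₂ y₂) :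
    ∃ (Z : C) (a₁ : Z ⟶ Y₁) (a₂ : Z ⟶ Y₂) (z : (Φ i).fiber.obj Z),
      a₁ ≫ f₁ = a₂ ≫ f₂ ∧ (Φ i).fiber.map a₁ z = y₁ ∧ (Φ i).fiber.map a₂ z = y₂ := by
  haveI := (Φ i).isCofiltered
  let e₁ : (Φ i).fiber.Elements := ⟨Y₁, y₁⟩
  let e₂ : (Φ i).fiber.Elements := ⟨Y₂, y₂⟩
  let e : (Φ i).fiber.Elements := ⟨X, (Φ i).fiber.map f₁ y₁⟩
  obtain ⟨W, c₁, c₂, hc⟩ := IsCofiltered.cospan (C := (Φ i).fiber.Elements)
    (CategoryOfElements.homMk e₁ e f₁ rfl) (CategoryOfElements.homMk e₂ e f₂ h.symm)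
  exact ⟨W.1, c₁.1, c₂.1, W.2, congrArg Subtype.val hc, c₁.2, c₂.2⟩

/-- The presheaf of families of functions on the fibres. -/
def godementPresheaf (A : ι → GrpCat.{u + 1}) : Cᵒᵖ ⥤ GrpCat.{u + 1} where
  obj V := GrpCat.of (∀ i, (Φ i).fiber.obj V.unop → A i)
  map f := GrpCat.ofHom
    { toFun := fun g i z => g i ((Φ i).fiber.map f.unop z)
      map_one' := rfl
      map_mul' := fun _ _ => rfl }
  map_id V := by
    ext g i z
    simp
  map_comp f f' := by
    ext g i z
    simp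

theorem godementPresheaf_map_apply (A : ι → GrpCat.{u + 1}) {V W : C} (f : W ⟶ V)
    (g : (godementPresheaf Φ A).obj (op V)) (i : ι) (z : (Φ i).fiber.obj W) :
    (godementPresheaf Φ A).map f.op g i z = g i ((Φ i).fiber.map f z) := rfl

theorem isSheaf_godementPresheaf (A : ι → GrpCat.{u + 1}) :
    Presheaf.IsSheaf J (godementPresheaf Φ A) := by
  intro E
  intro X S hS fam hfam
  rw [Presieve.compatible_iff_sieveCompatible] at hfam
  let φ : ∀ ⦃Y : C⦄ (f : Y ⟶ X), S f → (E ⟶ (godementPresheaf Φ A).obj (op Y)) := fam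
  have hφ : ∀ ⦃Y Z : C⦄ (f : Y ⟶ X) (a : Z ⟶ Y) (h : S f),
      φ (a ≫ f) (S.downward_closed h a) = φ f h ≫ (godementPresheaf Φ A).map a.op :=
    fun Y Z f a h => hfam f a h
  have hkey : ∀ (e : E) {Y₁ Y₂ : C} (f₁ : Y₁ ⟶ X) (f₂ : Y₂ ⟶ X) (h₁ : S f₁) (h₂ : S f₂)
      (i : ι) (y₁ : (Φ i).fiber.obj Y₁) (y₂ : (Φ i).fiber.obj Y₂),
      (Φ i).fiber.map f₁ y₁ = (Φ i).fiber.map f₂ y₂ →
      φ f₁ h₁ e i y₁ = φ f₂ h₂ e i y₂ := by
    intro e Y₁ Y₂ f₁ f₂ h₁ h₂ i y₁ y₂ h
    obtain ⟨Z, a₁, a₂, z, ha, rfl, rfl⟩ := exists_common i f₁ f₂ y₁ y₂ h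
    have e₁ := congrFun (congrFun congr($(hφ f₁ a₁ h₁) e) i) z
    have e₂ := congrFun (congrFun congr($(hφ f₂ a₂ h₂) e) i) z
    refine e₁.symm.trans (Eq.trans ?_ e₂)
    simp only [ha]
  choose Y f hf y hy using fun (i : ι) (x : (Φ i).fiber.obj X) => (Φ i).jointly_surjective S hS x
  let g : E ⟶ (godementPresheaf Φ A).obj (op X) := GrpCat.ofHom
    { toFun := fun e i x => φ (f i x) (hf i x) e i (y i x)
      map_one' := by
        funext i x
        exact congrFun (congrFun (map_one (φ (f i x) (hf i x)).hom) i) (y i x)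
      map_mul' := fun a b => by
        funext i x
        exact congrFun (congrFun (map_mul (φ (f i x) (hf i x)).hom a b) i) (y i x) }
  refine ⟨g, fun Z a ha => ?_, fun g' hg' => ?_⟩
  · refine (ConcreteCategory.hom_ext (g ≫ (godementPresheaf Φ A).map a.op) (φ a ha) fun e => ?_)
    funext i z
    exact hkey e _ a _ ha i _ z (hy i _)
  · let γ : E ⟶ (godementPresheaf Φ A).obj (op X) := g'
    refine ConcreteCategory.hom_ext γ g fun e => ?_
    funext i x
    have h1 : γ ≫ (godementPresheaf Φ A).map (f i x).op = φ (f i x) (hf i x) := hg' _ _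
    refine Eq.trans ?_ (congrFun (congrFun congr($h1 e) i) (y i x))
    exact congrArg (γ e i) (hy i x).symm

/-- The Godement sheaf of groups. -/
def godement (A : ι → GrpCat.{u + 1}) : Sheaf J GrpCat.{u + 1} :=
  ⟨godementPresheaf Φ A, isSheaf_godementPresheaf Φ A⟩

/-- Every torsor under the restriction of a Godement sheaf has a global section. -/
theorem hasSection_godement (A : ι → GrpCat.{u + 1}) (U : C)
    (P : NonAbH1.Torsor ((godement Φ A).over U)) : P.toGSheaf.HasSection := by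
  classical
  obtain ⟨S, hS, hne⟩ := P.isTorsor.2 (Over.mk (𝟙 U))
  rw [GrothendieckTopology.mem_over_iff] at hS
  choose W w hw y hy using fun (i : ι) (x : (Φ i).fiber.obj U) =>
    (Φ i).jointly_surjective _ hS x
  have hs : ∀ (i : ι) (x : (Φ i).fiber.obj U),
      Nonempty (P.P.obj.obj (op (Over.mk (w i x)))) := by
    intro i x
    have h := (Sieve.overEquiv_iff S (w i x)).1 (hw i x)
    obtain ⟨s⟩ := hne _ h
    exact ⟨P.P.obj.map (Over.homMk (𝟙 _) : Over.mk (w i x) ⟶ Over.mk (w i x ≫ 𝟙 U)).op s⟩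
  let s := fun i x => (hs i x).some
  -- the comparison value of a section at a point
  have hcmp : ∀ (V : Over U) (t : P.P.obj.obj (op V)) (i : ι) (z : (Φ i).fiber.obj V.left),
      ∃ v : A i, ∀ (Z : Over U) (a : Z ⟶ V)
        (b : Z ⟶ Over.mk (w i ((Φ i).fiber.map V.hom z))) (ζ : (Φ i).fiber.obj Z.left)
        (g : ((godement Φ A).over U).obj.obj (op Z)),
        (Φ i).fiber.map a.left ζ = z → (Φ i).fiber.map b.left ζ = y i _ →
        P.smul g (P.P.obj.map a.op t) = P.P.obj.map b.op (s i _) → g i ζ = v := by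
    intro V t i z
    have key : ∀ (Z Z' : Over U) (a : Z ⟶ V) (a' : Z' ⟶ V)
        (b : Z ⟶ Over.mk (w i ((Φ i).fiber.map V.hom z)))
        (b' : Z' ⟶ Over.mk (w i ((Φ i).fiber.map V.hom z)))
        (ζ : (Φ i).fiber.obj Z.left) (ζ' : (Φ i).fiber.obj Z'.left)
        (g : ((godement Φ A).over U).obj.obj (op Z)) (g' : ((godement Φ A).over U).obj.obj (op Z')),
        (Φ i).fiber.map a.left ζ = z → (Φ i).fiber.map a'.left ζ' = z →
        (Φ i).fiber.map b.left ζ = y i _ → (Φ i).fiber.map b'.left ζ' = y i _ →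
        P.smul g (P.P.obj.map a.op t) = P.P.obj.map b.op (s i _) →
        P.smul g' (P.P.obj.map a'.op t) = P.P.obj.map b'.op (s i _) → g i ζ = g' i ζ' := by
      intro Z Z' a a' b b' ζ ζ' g g' ha ha' hb hb' hg hg'
      obtain ⟨T, c, c', τ, hc, hτ, hτ'⟩ := exists_common i a.left a'.left ζ ζ' (ha.trans ha'.symm)
      obtain ⟨T', d, d', τ', hd, hτ₁, hτ₂⟩ := exists_common i (c ≫ b.left) (c' ≫ b'.left) τ τ (by
        rw [← fiber_map_map, ← fiber_map_map, hτ, hτ', hb, hb'])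
      -- equalise the two copies
      obtain ⟨T'', k, hk, τ'', hτ''⟩ : ∃ (T'' : C) (k : T'' ⟶ T'),
          k ≫ d = k ≫ d' ∧ ∃ τ'' : (Φ i).fiber.obj T'', (Φ i).fiber.map k τ'' = τ' := by
        haveI := (Φ i).isCofiltered
        let e : (Φ i).fiber.Elements := ⟨T', τ'⟩
        let e₀ : (Φ i).fiber.Elements := ⟨T, τ⟩
        let f₁ : e ⟶ e₀ := CategoryOfElements.homMk e e₀ d hτ₁
        let f₂ : e ⟶ e₀ := CategoryOfElements.homMk e e₀ d' hτ₂
        exact ⟨_, (IsCofiltered.eqHom f₁ f₂).1,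
          congrArg Subtype.val (IsCofiltered.eq_condition f₁ f₂), _, (IsCofiltered.eqHom f₁ f₂).2⟩
      let E : Over U := Over.mk ((k ≫ d ≫ c) ≫ Z.hom)
      let p : E ⟶ Z := Over.homMk (k ≫ d ≫ c)
      let p' : E ⟶ Z' := Over.homMk (k ≫ d ≫ c') (by
        change (k ≫ d ≫ c') ≫ Z'.hom = (k ≫ d ≫ c) ≫ Z.hom
        rw [← Over.w a, ← Over.w a']
        simp only [Category.assoc, reassoc_of% hc])
      have e1 : p ≫ a = p' ≫ a' := Over.OverMorphism.ext (by simp [p, p', hc])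
      have e2 : p ≫ b = p' ≫ b' := Over.OverMorphism.ext (by
        change (k ≫ d ≫ c) ≫ b.left = (k ≫ d ≫ c') ≫ b'.left
        simp only [Category.assoc]
        rw [hd, reassoc_of% hk])
      have h1 : ((godement Φ A).over U).obj.map p.op g =
          ((godement Φ A).over U).obj.map p'.op g' := by
        refine smul_cancel P.isTorsor.1 (p := P.P.obj.map p.op (P.P.obj.map a.op t)) ?_
        rw [← P.map_smul, hg, map_map (P := P.toGSheaf), map_map (P := P.toGSheaf), e1, e2,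
          ← map_map (P := P.toGSheaf) a' p', ← P.map_smul, hg', map_map (P := P.toGSheaf)]
      have h2 := congrFun (congrFun h1 i) τ''
      change g i ((Φ i).fiber.map (k ≫ d ≫ c) τ'') = g' i ((Φ i).fiber.map (k ≫ d ≫ c') τ'') at h2
      simpa [hτ'', hτ₁, hτ, hτ'] using h2
    obtain ⟨Z, a, b, ζ, hab, ha, hb⟩ := exists_common i V.hom (w i ((Φ i).fiber.map V.hom z)) z
      (y i _) (hy i _).symm
    let Z₀ : Over U := Over.mk (a ≫ V.hom)
    let a₀ : Z₀ ⟶ V := Over.homMk a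
    let b₀ : Z₀ ⟶ Over.mk (w i ((Φ i).fiber.map V.hom z)) := Over.homMk b hab.symm
    obtain ⟨g, hg, -⟩ := P.isTorsor.1 _ (P.P.obj.map a₀.op t) (P.P.obj.map b₀.op (s i _))
    exact ⟨g i ζ, fun Z' a' b' ζ' g' ha' hb' hg' =>
      key Z' Z₀ a' a₀ b' b₀ ζ' ζ g' g ha' ha hb' hb hg' hg⟩
  choose val hval using hcmp
  have hwit : ∀ (V : Over U) (i : ι) (z : (Φ i).fiber.obj V.left),
      ∃ (Z : Over U) (a : Z ⟶ V) (b : Z ⟶ Over.mk (w i ((Φ i).fiber.map V.hom z)))
        (ζ : (Φ i).fiber.obj Z.left),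
        (Φ i).fiber.map a.left ζ = z ∧ (Φ i).fiber.map b.left ζ = y i _ := by
    intro V i z
    obtain ⟨Z, a, b, ζ, hab, ha, hb⟩ := exists_common i V.hom (w i ((Φ i).fiber.map V.hom z)) z
      (y i _) (hy i _).symm
    exact ⟨Over.mk (a ≫ V.hom), Over.homMk a, Over.homMk b hab.symm, ζ, ha, hb⟩
  -- normalised sections
  let valG : ∀ (V : Over U), P.P.obj.obj (op V) → ((godement Φ A).over U).obj.obj (op V) :=
    fun V t i z => val V t i z
  let norm : ∀ (V : Over U), P.P.obj.obj (op V) → P.P.obj.obj (op V) := fun V t =>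
    P.smul (valG V t) t
  have hindep : ∀ V t t', norm V t = norm V t' := by
    intro V t t'
    obtain ⟨k, hk, -⟩ := P.isTorsor.1 _ t t'
    have hv : valG V t = valG V t' * k := by
      funext i z
      obtain ⟨Z, a, b, ζ, ha, hb⟩ := hwit V i z
      obtain ⟨g, hg, -⟩ := P.isTorsor.1 _ (P.P.obj.map a.op t') (P.P.obj.map b.op (s i _))
      have h1 := hval V t' i z Z a b ζ g ha hb hg
      have h2 := hval V t i z Z a b ζ (g * ((godement Φ A).over U).obj.map a.op k) ha hb (by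
        rw [P.mul_smul, ← P.map_smul, hk, hg])
      change val V t i z = val V t' i z * k i z
      rw [← h1, ← h2]
      change g i ζ * k i ((Φ i).fiber.map a.left ζ) = g i ζ * k i z
      rw [ha]
    change P.smul _ t = P.smul _ t'
    rw [hv, P.mul_smul, hk]
  have hnat : ∀ {V V' : Over U} (e : V' ⟶ V) (t : P.P.obj.obj (op V)),
      P.P.obj.map e.op (norm V t) = norm V' (P.P.obj.map e.op t) := by
    intro V V' e t
    change P.P.obj.map e.op (P.smul _ t) = _
    rw [P.map_smul]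
    congr 1
    funext i z
    obtain ⟨Z, a, b, ζ, ha, hb⟩ := hwit V' i z
    obtain ⟨g, hg, -⟩ := P.isTorsor.1 _ (P.P.obj.map a.op (P.P.obj.map e.op t))
      (P.P.obj.map b.op (s i _))
    have hx : (Φ i).fiber.map V.hom ((Φ i).fiber.map e.left z) = (Φ i).fiber.map V'.hom z := by
      rw [fiber_map_map, Over.w e]
    have h1 := hval V' (P.P.obj.map e.op t) i z Z a b ζ g ha hb hg
    change val V t i ((Φ i).fiber.map e.left z) = val V' _ i z
    rw [← h1]
    have aux : ∀ (x : (Φ i).fiber.obj U) (b' : Z ⟶ Over.mk (w i x))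
        (hxz : (Φ i).fiber.map V.hom ((Φ i).fiber.map e.left z) = x),
        (Φ i).fiber.map b'.left ζ = y i x →
        P.smul g (P.P.obj.map (a ≫ e).op t) = P.P.obj.map b'.op (s i x) →
        g i ζ = val V t i ((Φ i).fiber.map e.left z) := by
      rintro _ b' rfl hb' hg'
      exact hval V t i _ Z (a ≫ e) b' ζ g (by simp [ha]) hb' hg'
    exact (aux _ b hx hb (by rw [← hg, map_map (P := P.toGSheaf)])).symm
  have hglue : ∀ V : Over U, ∃! p : P.P.obj.obj (op V), ∀ ⦃V' : Over U⦄ (e : V' ⟶ V)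
      (t : P.P.obj.obj (op V')), P.P.obj.map e.op p = norm V' t := by
    intro V
    obtain ⟨T, hT, hneT⟩ := P.isTorsor.2 V
    obtain ⟨p, hp, huniq⟩ := existsUnique_glue_type P.P hT (fun V' e he => norm V' (hneT e he).some)
      (fun V' V'' c e he => by rw [hnat]; exact hindep _ _ _)
    refine ⟨p, fun V' e t => ?_, fun p' hp' => huniq p' fun V' e he => hp' e _⟩
    refine ext_type P.P ((J.over U).pullback_stable e hT) fun V'' c hc => ?_
    rw [hnat, map_map (P := P.toGSheaf)]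
    exact (hp (c ≫ e) hc).trans (hindep _ _ _)
  choose p hp hpuniq using hglue
  refine ⟨fun V => p V.unop, fun {V V'} e => hpuniq V'.unop _ fun Y d t => ?_⟩
  simp only [← ConcreteCategory.comp_apply, ← Functor.map_comp]
  exact hp V.unop (d ≫ e.unop) t

section Germ

variable (F : Cᵒᵖ ⥤ GrpCat.{u + 1}) (i : ι)

/-- The diagram of the stalk at a point. -/
noncomputable def germDiag : AsSmall.{u + 1} (Φ i).fiber.Elementsᵒᵖ ⥤ GrpCat.{u + 1} :=
  AsSmall.down ⋙ (CategoryOfElements.π (Φ i).fiber).op ⋙ F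

instance hasColimit_germDiag : HasColimit (germDiag Φ F i) :=
  haveI := (Φ i).isCofiltered
  ⟨⟨⟨_, GrpCat.FilteredColimits.colimitCoconeIsColimit.{u + 1, u + 1} (germDiag Φ F i)⟩⟩⟩

/-- The stalk at a point. -/
noncomputable def stalkGrp : GrpCat.{u + 1} := colimit (germDiag Φ F i)

/-- The germ at a point. -/
noncomputable def germ (X : C) (x : (Φ i).fiber.obj X) : F.obj (op X) ⟶ stalkGrp Φ F i :=
  colimit.ι (germDiag Φ F i) (AsSmall.up.obj (op ⟨X, x⟩))

theorem germ_w {X Y : C} (f : X ⟶ Y) (x : (Φ i).fiber.obj X) :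
    F.map f.op ≫ germ Φ F i X x = germ Φ F i Y ((Φ i).fiber.map f x) :=
  colimit.w (germDiag Φ F i)
    (AsSmall.up.map (CategoryOfElements.homMk ⟨X, x⟩ ⟨Y, (Φ i).fiber.map f x⟩ f rfl).op)

theorem germ_eq {X : C} (x : (Φ i).fiber.obj X) (a b : F.obj (op X))
    (h : germ Φ F i X x a = germ Φ F i X x b) :
    ∃ (Y : C) (f : Y ⟶ X) (y : (Φ i).fiber.obj Y),
      (Φ i).fiber.map f y = x ∧ F.map f.op a = F.map f.op b := by
  haveI := (Φ i).isCofiltered
  obtain ⟨k, g, hg⟩ := ((colimit.isColimit (germDiag Φ F i)).eq_iff' ..).1 h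
  exact ⟨_, (AsSmall.down.map g).unop.1, _, (AsSmall.down.map g).unop.2, hg⟩

end Germ

/-- The canonical map to the Godement sheaf of the stalks. -/
noncomputable def toGodement (F : Sheaf J GrpCat.{u + 1}) :
    F ⟶ godement Φ (stalkGrp Φ F.obj) :=
  ⟨{ app := fun V => GrpCat.ofHom
      { toFun := fun a i z => germ Φ F.obj i V.unop z a
        map_one' := by funext i z; exact map_one _
        map_mul' := fun a b => by funext i z; exact map_mul _ a b }
     naturality := fun V V' f => by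
      refine ConcreteCategory.hom_ext _ _ fun a => ?_
      funext i z
      exact congr($(germ_w Φ F.obj i f.unop z) a) }⟩

theorem toGodement_injective (F : Sheaf J GrpCat.{u + 1})
    (hcons : ∀ (X : C) (R : Sieve X),
      (∀ (i : ι) (x : (Φ i).fiber.obj X), ∃ (Y : C) (f : Y ⟶ X) (_ : R f)
        (y : (Φ i).fiber.obj Y), (Φ i).fiber.map f y = x) → R ∈ J X) (V : Cᵒᵖ) :
    Function.Injective ((toGodement Φ F).hom.app V) := by
  intro a b h
  let R : Sieve V.unop :=
    { arrows := fun Y f => F.obj.map f.op a = F.obj.map f.op b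
      downward_closed := fun {Y Z f} hf g => by simp [hf] }
  refine ext_group F (hcons _ R fun i x => ?_) fun Y f hf => hf
  obtain ⟨Y, f, y, hy, he⟩ := germ_eq Φ F.obj i x a b (congrFun (congrFun h i) x)
  exact ⟨Y, f, he, y, hy⟩

end Groth.Agent.Torsor25
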